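import Groth.Agent.EGA43.DimFormula.Equidim
import Mathlib.RingTheory.Ideal.KrullsHeightTheorem

/-!
# EGA IV 13.3.?: cutting an equidimensional morphism by a function
-/

set_option autoImplicit false
set_option backward.isDefEq.respectTransparency false
set_option linter.style.haveILetI false

universe u

open CategoryTheory CategoryTheory.Limits AlgebraicGeometry TopologicalSpace IsLocalRing Opposite

namespace Groth.Agent.EGA43.EquidimCut

open Groth.Agent FlatMorWeight DimFormula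

variable {X Y : Scheme.{u}} [IrreducibleSpace Y] [IsLocallyNoetherian Y] (f : X ⟶ Y) [LocallyOfFiniteType f]

theorem toPt_mem_basicOpen_iff (x : X) (P : PrimeSpectrum (X.presheaf.stalk x)) (g : Γ(X, ⊤)) :
    toPt x P ∈ X.basicOpen g ↔ X.presheaf.germ ⊤ x trivial g ∉ P.asIdeal := by
  show P ∈ (X.fromSpecStalk x) ⁻¹ᵁ X.basicOpen g ↔ _
  rw [Scheme.preimage_basicOpen_top, Scheme.fromSpecStalk_appTop, CategoryTheory.comp_apply,
    CategoryTheory.comp_apply]
  rw [show X.presheaf.germ ⊤ x trivial g = X.presheaf.germ ⊤ x trivial g from rfl]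
  erw [basicOpen_eq_of_affine]
  rfl

/-- Krull's principal ideal theorem at a maximal point of a zero locus. -/
theorem dimAt_le_one [IsLocallyNoetherian X] (g : Γ(X, ⊤)) {x' : X} (hx' : x' ∈ X.zeroLocus ({g} : Set Γ(X, ⊤)))
    (hmax : ∀ w, w ∈ X.zeroLocus ({g} : Set Γ(X, ⊤)) → w ⤳ x' → w = x') : dimAt x' ≤ 1 := by
  let t := X.presheaf.germ ⊤ x' trivial g
  have hnot : x' ∉ X.basicOpen g := by
    rw [X.zeroLocus_singleton] at hx'
    exact hx'
  have htm : t ∈ maximalIdeal (X.presheaf.stalk x') := by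
    rw [IsLocalRing.mem_maximalIdeal, mem_nonunits_iff]
    exact fun h => hnot ((Scheme.mem_basicOpen X g x' trivial).2 h)
  have hmin : maximalIdeal (X.presheaf.stalk x') ∈ (Ideal.span {t}).minimalPrimes := by
    refine ⟨⟨inferInstance, (Ideal.span_singleton_le_iff_mem _).2 htm⟩, fun P ⟨hP, htP⟩ _ => ?_⟩
    let P' : PrimeSpectrum (X.presheaf.stalk x') := ⟨P, hP⟩
    have hw : toPt x' P' ∈ X.zeroLocus ({g} : Set Γ(X, ⊤)) := by
      rw [X.zeroLocus_singleton]
      exact fun h => (toPt_mem_basicOpen_iff x' P' g).1 h ((Ideal.span_singleton_le_iff_mem _).1 htP)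
    have h1 : P' = closedPoint (X.presheaf.stalk x') := toPt_injective x'
      ((hmax _ hw (toPt_specializes x' P')).trans (toPt_closedPoint x').symm)
    exact (congrArg PrimeSpectrum.asIdeal h1).ge
  have h := Ideal.height_le_one_of_isPrincipal_of_mem_minimalPrimes _ _ hmin
  have h2 : ringKrullDim (X.presheaf.stalk x') ≤ 1 := by
    rw [← IsLocalRing.maximalIdeal_height_eq_ringKrullDim]
    exact_mod_cast h
  rw [dimAt_eq] at h2
  exact_mod_cast h2

/-- EGA IV 13.3.? -/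
theorem zeroLocus_main (x : X) (hf : EGA43.IsEquidimAt f x)
    (g : Γ(X, ⊤)) (hgx : x ∈ X.zeroLocus ({g} : Set Γ(X, ⊤)))
    (hmax : ∀ z : X, f.base z = f.base x → (∀ z' : X, f.base z' = f.base x → z ∈ closure ({z'} : Set X) → z' = z) →
      z ∉ X.zeroLocus ({g} : Set Γ(X, ⊤))) :
    (∀ w : ↥(Scheme.IdealSheafData.vanishingIdeal ⟨X.zeroLocus ({g} : Set Γ(X, ⊤)), X.zeroLocus_isClosed _⟩).subscheme,
        (Scheme.IdealSheafData.vanishingIdeal ⟨X.zeroLocus ({g} : Set Γ(X, ⊤)), X.zeroLocus_isClosed _⟩).subschemeι.base w = x →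
        EGA43.IsEquidimAt ((Scheme.IdealSheafData.vanishingIdeal ⟨X.zeroLocus ({g} : Set Γ(X, ⊤)), X.zeroLocus_isClosed _⟩).subschemeι ≫ f) w) ∧
      FlatMor.localDim ↥(X.zeroLocus ({g} : Set Γ(X, ⊤)) ∩ f.base ⁻¹' {f.base x}) ⟨x, ⟨hgx, rfl⟩⟩ + 1 = FlatMor.fibreDimAt f x ∧
      ∀ Z ∈ irreducibleComponents ↥(X.zeroLocus ({g} : Set Γ(X, ⊤))), (⟨x, hgx⟩ : ↥(X.zeroLocus ({g} : Set Γ(X, ⊤)))) ∈ Z →
        ∀ ξ : ↥(X.zeroLocus ({g} : Set Γ(X, ⊤))), closure ({ξ} : Set ↥(X.zeroLocus ({g} : Set Γ(X, ⊤)))) = Z →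
          ringKrullDim (X.presheaf.stalk (ξ : X)) = 1 := by
  haveI := LocallyOfFiniteType.isLocallyNoetherian f
  set T : Set X := X.zeroLocus ({g} : Set Γ(X, ⊤)) with hT
  have hTc : IsClosed T := X.zeroLocus_isClosed _
  -- points of the zero locus are not maximal in the fibre
  have hdrop : ∀ z ∈ T, z ⤳ x → f z = f x → trdAt f z + 1 ≤ fibDim f x + trdAt f x := by
    intro z hz hzx hze
    obtain ⟨z', hz'z, hz'e, hz'max⟩ := Chevalley.exists_maximal_in_fibre f z
    have hne : z' ≠ z := fun he => hmax z hze (fun w hw hwz => by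
      have := hz'max w (he ▸ specializes_iff_mem_closure.2 hwz) (hw.trans hze.symm)
      exact this.trans he) hz
    have h1 := cod_pos hz'z hne
    have h2 := fibre_formula f hz'z hz'e
    have h3 := trdAt_le f (hz'z.trans hzx) (hz'e.trans hze)
    omega
  have comp : ∀ x', x' ∈ T → x' ⤳ x → (∀ w, w ∈ T → w ⤳ x' → w = x') →
      dimAt x' = 1 ∧ IsMaximalPt (f x') ∧ trdAt f x' + 1 = fibDim f x + trdAt f x ∧
        ∃ z ∈ T, z ⤳ x ∧ f z = f x ∧ trdAt f z + 1 = fibDim f x + trdAt f x := by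
    intro x' hx' hx'x hx'max
    obtain ⟨Z, ι, hι, hZ, hr, hgen⟩ := exists_integral_subscheme x'
    haveI := hι
    haveI := hZ
    haveI := LocallyOfFiniteType.isLocallyNoetherian (ι ≫ f)
    obtain ⟨w, hw⟩ : x ∈ Set.range ι := hr.symm ▸ hx'x.mem_closure
    subst hw
    obtain ⟨z, hzw, hze, -, hd⟩ := exists_fibre_max (ι ≫ f) w
    have hzT : ι z ∈ T :=
      closure_minimal (Set.singleton_subset_iff.2 hx') hTc (hr.le ⟨z, rfl⟩)
    have h1 := hdrop _ hzT (hzw.map ι.continuous) hze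
    rw [trdAt_comp ι f z] at hd
    obtain ⟨h2, h3, h4⟩ := codim_and_fibre_dim f ι x' (hgen inferInstance) w 1 hf
      (dimAt_le_one g hx' hx'max) (by omega)
    obtain ⟨h5, h6⟩ := exists_of_isEquidimAt (ι ≫ f) h4 (genericPoint Z)
      (fun a ha => (ha.antisymm (genericPoint_specializes a)).eq) (genericPoint_specializes w)
    rw [trdAt_comp ι f, hgen inferInstance] at h6
    refine ⟨h2, ?_, by omega, ι z, hzT, hzw.map ι.continuous, hze, by omega⟩
    have h5' : IsMaximalPt (f (ι (genericPoint Z))) := h5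
    rwa [hgen inferInstance] at h5'
  let I := Scheme.IdealSheafData.vanishingIdeal (⟨T, hTc⟩ : Closeds X)
  have hrange : Set.range I.subschemeι = T := by
    rw [Scheme.IdealSheafData.range_subschemeι]
    exact Scheme.IdealSheafData.coe_support_vanishingIdeal _
  have hsub : ∀ w, I.subschemeι w = x → (∀ ξ, IsMaximalPt ξ → ξ ⤳ w →
      IsMaximalPt (f (I.subschemeι ξ)) ∧ trdAt f (I.subschemeι ξ) + 1 = fibDim f x + trdAt f x) ∧
      fibDim (I.subschemeι ≫ f) w + trdAt (I.subschemeι ≫ f) w + 1 = fibDim f x + trdAt f x := by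
    intro w hw
    have hcomp : ∀ ξ, IsMaximalPt ξ → ξ ⤳ w → dimAt (I.subschemeι ξ) = 1 ∧ IsMaximalPt (f (I.subschemeι ξ)) ∧
        trdAt f (I.subschemeι ξ) + 1 = fibDim f x + trdAt f x ∧
        ∃ z ∈ T, z ⤳ x ∧ f z = f x ∧ trdAt f z + 1 = fibDim f x + trdAt f x := fun ξ hξ hξw =>
      comp _ (hrange.le ⟨ξ, rfl⟩) ((hξw.map I.subschemeι.continuous).trans (specializes_of_eq hw))
        fun a ha hax => by
          obtain ⟨a', rfl⟩ := hrange.ge ha
          rw [hξ a' (I.subschemeι.isEmbedding.isInducing.specializes_iff.1 hax)]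
    refine ⟨fun ξ hξ hξw => ⟨(hcomp ξ hξ hξw).2.1, (hcomp ξ hξ hξw).2.2.1⟩, ?_⟩
    obtain ⟨ξ, hξw, W, hW, hgen⟩ := exists_isMaximalPt_specializes w
    obtain ⟨-, -, -, z, hzT, hzx, hze, hzd⟩ := hcomp ξ (isMaximalPt_of_isGenericPoint hW hgen) hξw
    obtain ⟨z', rfl⟩ := hrange.ge hzT
    subst hw
    have h1 := trdAt_le (I.subschemeι ≫ f) (I.subschemeι.isEmbedding.isInducing.specializes_iff.1 hzx) hze
    rw [trdAt_comp I.subschemeι f z'] at h1
    obtain ⟨v, hvw, hve, -, hvd⟩ := exists_fibre_max (I.subschemeι ≫ f) w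
    rw [trdAt_comp I.subschemeι f v] at hvd
    have h2 := hdrop _ (hrange.le ⟨v, rfl⟩) (hvw.map I.subschemeι.continuous) hve
    omega
  refine ⟨fun w hw => ?_, ?_, fun Z hZ hxZ ξ hξ => ?_⟩
  · obtain ⟨h1, h2⟩ := hsub w hw
    refine isEquidimAt_of_forall (I.subschemeι ≫ f) w fun ξ hξ hξw => ⟨(h1 ξ hξ hξw).1, ?_⟩
    rw [trdAt_comp I.subschemeι f ξ]
    have := (h1 ξ hξ hξw).2
    omega
  · obtain ⟨w, hw⟩ : x ∈ Set.range I.subschemeι := hrange.symm ▸ hgx
    rw [localDim_inter_fibre_eq_fibreDimAt I.subschemeι f T hrange w x hw, fibreDimAt_eq, fibreDimAt_eq]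
    exact_mod_cast (hsub w hw).2
  · have hξx : (ξ : X) ⤳ x :=
      (specializes_iff_mem_closure.2 (hξ.symm ▸ hxZ)).map continuous_subtype_val
    have := (comp ξ ξ.2 hξx fun a ha hax => ?_).1
    · rw [dimAt_eq, this]
      rfl
    have h1 : ξ ∈ closure {(⟨a, ha⟩ : T)} :=
      specializes_iff_mem_closure.1 (Topology.IsInducing.subtypeVal.specializes_iff.1 hax)
    have h2 : closure {(⟨a, ha⟩ : T)} ⊆ Z := hZ.2 isIrreducible_singleton.closure
      (hξ ▸ closure_minimal (Set.singleton_subset_iff.2 h1) isClosed_closure)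
    have h3 : (⟨a, ha⟩ : T) ∈ closure {ξ} := hξ ▸ h2 (subset_closure rfl)
    exact (hax.antisymm ((specializes_iff_mem_closure.2 h3).map continuous_subtype_val)).eq

end Groth.Agent.EGA43.EquidimCut
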